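import Mathlib
import Cfsg.Agent.Lib.Helper83.SnB.Q8MDefs

set_option autoImplicit false

/-! S2986 [Q8-M], sub-package [M-SXN] (helper97): `A_E = A_F`, `E` exceptional, `F` not:
impossible.  (`noInv` of `E` applied to `g₀ = z_E z_F`.) -/

namespace Cfsg.Agent.Lib.Helper97.SnB

open Cfsg Cfsg.Agent.Lib.Helper41.SnB Cfsg.Agent.Lib.Helper34.SnB Cfsg.Agent.Lib.Helper83.SnB

universe u

/-- [M-SXN]. -/
theorem pkgSXN : PkgSXN.{u} := by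
  intro G _ _ p _ S₀ E F KE KF zE zF gf oE oF hA xE nF
  have hzE_E : zE ∈ E := oE.q8.KX oE.q8.zK
  have hzF_F : zF ∈ F := oF.q8.KX oF.q8.zK
  have hzE_S : zE ∈ S₀ := oE.q8.KS oE.q8.zK
  have hzF_S : zF ∈ S₀ := oF.q8.KS oF.q8.zK
  have hg_S : zE * zF ∈ S₀ := mul_mem hzE_S hzF_S
  have hQP : Qb p E ≤ pCore p G := oE.sb.QP
  have hAW : Ab p E ≤ Wb p E := oE.bf.AW
  have hAQ : Ab p E ≤ Qb p E := oE.bf.AW.trans oE.bf.WQ
  -- (a) `[z_F, c] ∈ A` for `c ∈ P`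
  have ha : ∀ c ∈ pCore p G, zF * c * zF⁻¹ * c⁻¹ ∈ Ab p E := by
    intro c hc
    have h1 := oF.b1.PXQ zF hzF_F c hc
    have h2 : zF * c * zF⁻¹ * c⁻¹ ∈ Ab p F := by rw [← nF.1]; exact h1
    rw [hA]; exact h2
  have hinvE : ∀ a ∈ Ab p E, zE * a * zE⁻¹ = a⁻¹ := oE.q8.invA
  have hinvF : ∀ a ∈ Ab p E, zF * a * zF⁻¹ = a⁻¹ := by
    intro a ha'
    have : a ∈ Ab p F := by rw [← hA]; exact ha'
    exact oF.q8.invA a this
  have hzEA : ∀ a ∈ Ab p E, zE * a * zE⁻¹ ∈ Ab p E := by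
    intro a ha'
    rw [hinvE a ha']; exact inv_mem ha'
  -- condition 1
  have c1 : ∀ u ∈ Qb p E, (zE * zF) * u * (zE * zF)⁻¹ ∈ Qb p E := by
    intro u hu
    have h1 : zF * u * zF⁻¹ ∈ Qb p E := by
      have h2 := hAQ (ha u (hQP hu))
      have : zF * u * zF⁻¹ = (zF * u * zF⁻¹ * u⁻¹) * u := by group
      rw [this]; exact mul_mem h2 hu
    have h3 := oE.bf.nQ zE (Subgroup.le_normalizer hzE_E) _ h1
    have : zE * zF * u * (zE * zF)⁻¹ = zE * (zF * u * zF⁻¹) * zE⁻¹ := by group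
    rw [this]; exact h3
  -- `g₀` centralizes `A`
  have hd : ∀ a ∈ Ab p E, (zE * zF) * a = a * (zE * zF) := by
    intro a ha'
    have h1 : zF * a * zF⁻¹ = a⁻¹ := hinvF a ha'
    have h2 : zE * a⁻¹ * zE⁻¹ = a := by
      have := hinvE a⁻¹ (inv_mem ha')
      rw [this, inv_inv]
    have h3 : (zE * zF) * a * (zE * zF)⁻¹ = a := by
      calc (zE * zF) * a * (zE * zF)⁻¹ = zE * (zF * a * zF⁻¹) * zE⁻¹ := by group
        _ = a := by rw [h1, h2]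
    calc zE * zF * a = (zE * zF * a * (zE * zF)⁻¹) * (zE * zF) := by group
      _ = a * (zE * zF) := by rw [h3]
  -- `[z_E, w] ∈ A` for `w ∈ W`
  have heE : ∀ w ∈ Wb p E, zE * w * zE⁻¹ * w⁻¹ ∈ Ab p E := by
    intro w hw
    obtain ⟨a, ha', ζ, hζ, rfl⟩ := oE.bf.WAZ w hw
    have h1 : zE * a * zE⁻¹ = a⁻¹ := hinvE a ha'
    have h2 : zE * ζ * zE⁻¹ = ζ := by
      have := oE.bf.ZC ζ hζ zE hzE_E
      calc zE * ζ * zE⁻¹ = (zE * ζ) * zE⁻¹ := by group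
        _ = (ζ * zE) * zE⁻¹ := by rw [this]
        _ = ζ := by group
    have h3 : zE * (a * ζ) * zE⁻¹ * (a * ζ)⁻¹ =
        (zE * a * zE⁻¹) * (zE * ζ * zE⁻¹) * ζ⁻¹ * a⁻¹ := by group
    rw [h3, h1, h2]
    have h4 : a⁻¹ * ζ * ζ⁻¹ * a⁻¹ = a⁻¹ * a⁻¹ := by group
    rw [h4]
    exact mul_mem (inv_mem ha') (inv_mem ha')
  have he : ∀ w ∈ Wb p E, (zE * zF) * w * (zE * zF)⁻¹ * w⁻¹ ∈ Ab p E := by
    intro w hw
    have hwP : w ∈ pCore p G := hQP (oE.bf.WQ hw)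
    have h1 := ha w hwP
    have h2 := hzEA _ h1
    have h3 := heE w hw
    have : (zE * zF) * w * (zE * zF)⁻¹ * w⁻¹ =
        (zE * (zF * w * zF⁻¹ * w⁻¹) * zE⁻¹) * (zE * w * zE⁻¹ * w⁻¹) := by group
    rw [this]; exact mul_mem h2 h3
  have hcW : ∀ w ∈ Wb p E, (zE * zF) * w = w * (zE * zF) :=
    coprimeChain (Wb p E) (Ab p E) (zE * zF)
      (fun h hh => ⟨1, by rw [pow_one]; exact oE.b1.W3 h hh⟩) (gf.S2 _ hg_S) hAW hd he
  -- condition 2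
  have c2 : ∀ w ∈ Wb p E, (zE * zF) * w * (zE * zF)⁻¹ * w⁻¹ ∈ Zb p E := by
    intro w hw
    have h1 : (zE * zF) * w * (zE * zF)⁻¹ * w⁻¹ = 1 := by rw [hcW w hw]; group
    rw [h1]; exact one_mem _
  -- condition 3
  have hy : ∀ c ∈ pCore p G, (zE * zF) * c * (zE * zF)⁻¹ * c⁻¹ ∈ Qb p E := by
    intro c hc
    have h1 := ha c hc
    have h2 := hAQ (hzEA _ h1)
    have h3 := oE.b1.PXQ zE hzE_E c hc
    have : (zE * zF) * c * (zE * zF)⁻¹ * c⁻¹ =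
        (zE * (zF * c * zF⁻¹ * c⁻¹) * zE⁻¹) * (zE * c * zE⁻¹ * c⁻¹) := by group
    rw [this]; exact mul_mem h2 h3
  have c3 : ∀ c ∈ pCore p G, ∀ u ∈ Qb p E,
      ((zE * zF) * c * (zE * zF)⁻¹ * c⁻¹) * u * ((zE * zF) * c * (zE * zF)⁻¹ * c⁻¹)⁻¹ * u⁻¹ ∈
        Zb p E := by
    intro c hc u hu
    exact xE.QZ _ (hy c hc) u hu
  -- condition 4
  have c4 : ∀ u ∈ Qb p E, (zE * zF) * u * (zE * zF)⁻¹ * u ∈ Wb p E := by
    intro u hu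
    have h1 := ha u (hQP hu)
    have h2 := hAW (hzEA _ h1)
    have h3 := xE.exc.invQ u hu
    have : (zE * zF) * u * (zE * zF)⁻¹ * u =
        (zE * (zF * u * zF⁻¹ * u⁻¹) * zE⁻¹) * (zE * u * zE⁻¹ * u) := by group
    rw [this]; exact mul_mem h2 h3
  exact xE.noInv (zE * zF) hg_S c1 c2 c3 c4

end Cfsg.Agent.Lib.Helper97.SnB
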